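import Cfsg.Agent.H134.Cos.Tabs

/-!
# `Out` of `G₂(q)`, `F₄(q)` is cyclic (helper134, for S4180)

* `diag_inner` : all diagonal automorphisms are inner if the Cartan matrix is unimodular;
* `lift_F4`, `lift_G2` : it is enough to treat the pairs `(x, y)` with `x` inner and `y` monomial, where the permutation
  of the roots of `y` is the identity or, in characteristic 2, resp. 3, the flip.
-/

set_option autoImplicit false
set_option linter.unusedSectionVars false

namespace Cfsg.Agent.H134.Cos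

open scoped Pointwise
open Cfsg Cfsg.Lie Cfsg.Agent.ChevalleyStructure Cfsg.Agent.ChevalleyStructure.Elts
  Cfsg.Agent.ChevalleyStructure.NConj Cfsg.Agent.ChevalleyStructure.BNChev Cfsg.Agent.S1042
  Cfsg.Agent.Schreier.ChevLocal Cfsg.Agent.H70.AutFix Cfsg.Agent.H70.ChevTab Cfsg.Agent.H70.ChevFix
  Cfsg.Agent.H70.ChevField Cfsg.Agent.H70.OutCount Cfsg.Agent.H135.TwoG Cfsg.Agent.H69.OutGF
open Cfsg.Agent.H891.Gen (Lift)

universe u

variable {D : ChevalleyDatum} {hD : InList D} {F : Type u} [Field F]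

/-! ### diagonal automorphisms -/

variable (hD F) in
/-- the element `∏_{j < k} h_j(c ^ n_j)` -/
def tq (n : ℕ → ℤ) (c : F) : ℕ → ↥(D.group F)
  | 0 => 1
  | k + 1 => tq n c k * he hD (D.simple k) (c ^ n k)

/-- the exponents -/
def prs (D : ChevalleyDatum) (n : ℕ → ℤ) (s : ℕ) : ℕ → ℤ
  | 0 => 0
  | k + 1 => prs D n s k + n k * D.cartan k s

theorem mono_tq {n : ℕ → ℤ} {c : F} (hc : c ≠ 0) {k : ℕ} (hk : k ≤ D.rank) :
    Mono hD (MulAut.conj (tq hD F n c k)) (fun s => s) (fun s => c ^ prs D n s k) fun _ => 1 := by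
  induction k with
  | zero =>
    have e : MulAut.conj (tq hD F n c 0) = 1 := by
      change MulAut.conj (1 : ↥(D.group F)) = 1
      rw [map_one]
    rw [e]
    exact mono_one.congr (fun _ _ => rfl) (fun s _ => zpow_zero c) fun _ _ => rfl
  | succ k ih =>
    have e : MulAut.conj (tq hD F n c (k + 1)) = MulAut.conj (tq hD F n c k) * MulAut.conj (he hD (D.simple k) (c ^ n k)) := by
      rw [← map_mul]
      rfl
    rw [e]
    refine ((ih (by omega)).mul (mono_he (hD := hD) (by omega) (zpow_ne_zero (n k) hc))).congr (fun _ _ => rfl)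
      (fun s _ => ?_) fun _ _ => rfl
    change c ^ (prs D n s k + n k * D.cartan k s) = c ^ prs D n s k * (c ^ n k) ^ D.cartan k s
    rw [zpow_add₀ hc, zpow_mul]

variable (hD F) in
/-- the product over the nodes -/
def tQ (N : ℕ → ℕ → ℤ) (c : ℕ → F) : ℕ → ↥(D.group F)
  | 0 => 1
  | k + 1 => tQ N c k * tq hD F (N k) (c k) D.rank

theorem mono_tQ {N : ℕ → ℕ → ℤ} {c : ℕ → F} (hc : ∀ i, c i ≠ 0) (k : ℕ) :
    Mono hD (MulAut.conj (tQ hD F N c k)) (fun s => s) (fun s => ∏ i ∈ Finset.range k, c i ^ prs D (N i) s D.rank)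
      fun _ => 1 := by
  induction k with
  | zero =>
    have e : MulAut.conj (tQ hD F N c 0) = 1 := by
      change MulAut.conj (1 : ↥(D.group F)) = 1
      rw [map_one]
    rw [e]
    exact mono_one.congr (fun _ _ => rfl) (fun s _ => by rw [Finset.range_zero, Finset.prod_empty]) fun _ _ => rfl
  | succ k ih =>
    have e : MulAut.conj (tQ hD F N c (k + 1)) = MulAut.conj (tQ hD F N c k) * MulAut.conj (tq hD F (N k) (c k) D.rank) := by
      rw [← map_mul]
      rfl
    rw [e]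
    refine (ih.mul (mono_tq (hD := hD) (n := N k) (hc k) le_rfl)).congr (fun _ _ => rfl) (fun s _ => ?_) fun _ _ => rfl
    rw [Finset.prod_range_succ]
    rfl

/-- the check: `N` is the inverse of the Cartan matrix -/
def Uni (D : ChevalleyDatum) (N : ℕ → ℕ → ℤ) : Prop :=
  ∀ i < D.rank, ∀ k < D.rank, prs D (N i) (D.simple k) D.rank = (if i = k then 1 else 0) ∧
    prs D (N i) (D.neg (D.simple k)) D.rank = (if i = k then -1 else 0)

instance (D : ChevalleyDatum) (N : ℕ → ℕ → ℤ) : Decidable (Uni D N) := by unfold Uni; infer_instance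

/-- **Diagonal automorphisms are inner.** -/
theorem diag_inner {N : ℕ → ℕ → ℤ} (hN : Uni D N) {χ : ℕ → Fˣ} (hχ : H70.ChevDiag.IsMul D χ) :
    H70.ChevDiag.diagAut hD hχ ∈ NI D F := by
  have hm := mono_tQ (hD := hD) (N := N) (c := fun i => (χ (D.simple i) : F)) (fun i => (χ _).ne_zero) D.rank
  refine ⟨tQ hD F N (fun i => (χ (D.simple i) : F)) D.rank, ?_⟩
  refine ext_values hD (fun k t => ?_) fun k t => ?_
  · rw [hm.eq _ (simple_lt hD k.2), diagAut_xe, Finset.prod_eq_single (k : ℕ)]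
    · rw [(hN k k.2 k k.2).1, if_pos rfl, zpow_one]
      rfl
    · intro i hi hik
      rw [(hN i (Finset.mem_range.1 hi) k k.2).1, if_neg hik, zpow_zero]
    · intro h
      exact absurd (Finset.mem_range.2 k.2) h
  · rw [hm.eq _ (neg_simple_lt hD k.2), diagAut_xe, Finset.prod_eq_single (k : ℕ)]
    · rw [(hN k k.2 k k.2).2, if_pos rfl, zpow_neg, zpow_one, (hχ _ (simple_lt hD k.2)).neg,
        Units.val_inv_eq_inv_val]
      rfl
    · intro i hi hik
      rw [(hN i (Finset.mem_range.1 hi) k k.2).2, if_neg hik, zpow_zero]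
    · intro h
      exact absurd (Finset.mem_range.2 k.2) h

/-- inverse of the Cartan matrix -/
def NG2 (i j : ℕ) : ℤ := ([[2, 3], [1, 2]].getD i []).getD j 0
/-- inverse of the Cartan matrix -/
def NF4 (i j : ℕ) : ℤ := ([[2, 3, 4, 2], [3, 6, 8, 4], [2, 4, 6, 3], [1, 2, 3, 2]].getD i []).getD j 0
/-- inverse of the Cartan matrix -/
def NE8 (i j : ℕ) : ℤ := ([[4, 5, 7, 10, 8, 6, 4, 2], [5, 8, 10, 15, 12, 9, 6, 3], [7, 10, 14, 20, 16, 12, 8, 4],
  [10, 15, 20, 30, 24, 18, 12, 6], [8, 12, 16, 24, 20, 15, 10, 5], [6, 9, 12, 18, 15, 12, 8, 4],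
  [4, 6, 8, 12, 10, 8, 6, 3], [2, 3, 4, 6, 5, 4, 3, 2]].getD i []).getD j 0

theorem uni_G2 : Uni chevG2 NG2 := by decide +kernel
theorem uni_F4 : Uni chevF4 NF4 := by decide +kernel
theorem uni_E8 : Uni chevE8 NE8 := by decide +kernel

/-! ### the reduction -/

/-- `Out` is generated by `α`, whose square is a field automorphism generating the group of all field automorphisms -/
theorem lift_exc [Finite F] {N : ℕ → ℕ → ℤ} (hN : Uni D N) {α : MulAut ↥(D.group F)} {f : Equiv.Perm (Fin D.rank)}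
    (hα : Perm D F α f) {τ : F ≃+* F} (hτ : ∀ σ : F ≃+* F, σ ∈ Subgroup.zpowers τ) (h2 : α * α = fl D τ)
    (hr : ∀ π ∈ realised hD F, π = 1 ∨ π = f)
    (h : ∀ x ∈ NI D F, ∀ y, (∃ σ, y = fl D σ) ∨ (∃ σ, y = α * fl D σ) → Lift (NI D F) x y)
    (x y : MulAut ↥(D.group F)) : Lift (NI D F) x y := by
  have hf2 : f * f = 1 := by
    have h3 := hα.mul hα
    rw [h2] at h3
    have h4 : Perm D F (fl D τ) 1 := perm_of_mono (hD := hD) Ext.one (fun _ => rfl) (mono_fl τ)
    exact Perm.unique hD h3 h4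
  -- the normal form
  have hnf : ∀ θ : MulAut ↥(D.group F), ∃ y, ((∃ σ, y = fl D σ) ∨ (∃ σ, y = α * fl D σ)) ∧ θ⁻¹ * y ∈ NI D F := by
    intro θ
    have h1 : ∀ ψ : MulAut ↥(D.group F), Perm D F ψ 1 → ∃ σ, ψ⁻¹ * fl D σ ∈ NI D F := by
      intro ψ hψ
      obtain ⟨χ, hχ, σ, rfl⟩ := mono_of_perm_one (hD := hD) hψ
      refine ⟨σ, ?_⟩
      have e : (H70.ChevDiag.diagAut hD hχ * fl D σ)⁻¹ * fl D σ =
          (fl D σ)⁻¹ * (H70.ChevDiag.diagAut hD hχ)⁻¹ * ((fl D σ)⁻¹)⁻¹ := by group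
      rw [e]
      exact (instNormalNI D F).conj_mem _ ((NI D F).inv_mem (diag_inner hN hχ)) _
    obtain ⟨g, ψ, π, rfl, hπ⟩ := exists_perm_form hD θ
    have hg : ∀ y, ψ⁻¹ * y ∈ NI D F → (MulAut.conj g * ψ)⁻¹ * y ∈ NI D F := by
      intro y hy
      have e : (MulAut.conj g * ψ)⁻¹ * y = (ψ⁻¹ * (MulAut.conj g⁻¹ * ψ)) * (ψ⁻¹ * y) := by
        rw [map_inv]
        group
      rw [e]
      exact (NI D F).mul_mem (inv_mul_conj_mul _ _) hy
    rcases hr π ⟨ψ, hπ⟩ with rfl | rfl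
    · obtain ⟨σ, hσ⟩ := h1 ψ hπ
      exact ⟨_, Or.inl ⟨σ, rfl⟩, hg _ hσ⟩
    · have h3 := hα.inv.mul hπ
      rw [inv_mul_cancel] at h3
      obtain ⟨σ, hσ⟩ := h1 _ h3
      refine ⟨_, Or.inr ⟨σ, rfl⟩, hg _ ?_⟩
      have e : ψ⁻¹ * (α * fl D σ) = (α⁻¹ * ψ)⁻¹ * fl D σ := by group
      rw [e]
      exact hσ
  have hfin : Finite (MulAut ↥(D.group F)) := inferInstance
  have hcyc : IsCyclic ((MulAut ↥(D.group F)) ⧸ NI D F) := by
    refine ⟨⟨(α : (MulAut ↥(D.group F)) ⧸ NI D F), fun u => ?_⟩⟩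
    obtain ⟨θ, rfl⟩ := QuotientGroup.mk_surjective u
    obtain ⟨y, hy, hy'⟩ := hnf θ
    have e : ((θ : MulAut ↥(D.group F)) : (MulAut ↥(D.group F)) ⧸ NI D F) = (y : (MulAut ↥(D.group F)) ⧸ NI D F) :=
      QuotientGroup.eq.2 hy'
    rw [e]
    have hfl : ∀ σ : F ≃+* F, ((fl D σ : MulAut ↥(D.group F)) : (MulAut ↥(D.group F)) ⧸ NI D F) ∈
        Subgroup.zpowers (α : (MulAut ↥(D.group F)) ⧸ NI D F) := by
      intro σ
      obtain ⟨n, hn⟩ := hτ σ
      let ff : (F ≃+* F) →* MulAut ↥(D.group F) := MonoidHom.mk' (fun τ => fl D τ) Cfsg.Agent.CpAut.RgdUntw.fld_mul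
      have h3 : fl D σ = (α * α) ^ n := by
        rw [h2]
        change ff σ = (ff τ) ^ n
        rw [← map_zpow]
        exact congrArg ff hn.symm
      rw [h3]
      have h4 : (((α * α) ^ n : MulAut ↥(D.group F)) : (MulAut ↥(D.group F)) ⧸ NI D F) =
          ((α : (MulAut ↥(D.group F)) ⧸ NI D F) * α) ^ n := by
        rw [QuotientGroup.mk_zpow, QuotientGroup.mk_mul]
      rw [h4]
      exact Subgroup.zpow_mem _ (Subgroup.mul_mem _ (Subgroup.mem_zpowers _) (Subgroup.mem_zpowers _)) _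
    rcases hy with ⟨σ, rfl⟩ | ⟨σ, rfl⟩
    · exact hfl σ
    · rw [QuotientGroup.mk_mul]
      exact Subgroup.mul_mem _ (Subgroup.mem_zpowers _) (hfl σ)
  refine lift_of_cyclic (QuotientGroup.mk' (NI D F)) (fun x y hx => ?_) x y
  obtain ⟨y', hy', hyy⟩ := hnf y
  exact lift_congr (x' := x) (by rw [inv_mul_cancel]; exact one_mem _) hyy
    (h x ((QuotientGroup.eq_one_iff x).1 hx) y' hy')

/-- the case where the diagram symmetries are not realised -/
theorem lift_plain [Finite F] {N : ℕ → ℕ → ℤ} (hN : Uni D N) (hr : ∀ π ∈ realised hD F, π = 1)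
    (h : ∀ x ∈ NI D F, ∀ σ : F ≃+* F, Lift (NI D F) x (fl D σ)) (x y : MulAut ↥(D.group F)) : Lift (NI D F) x y := by
  refine lift_of_KX (hD := hD) (full_of fun π hπ => by rw [hr π hπ]; exact ⟨Sym.one, _, Ext.one⟩) (fun x y hx => ?_) x y
  -- `KX` is inner
  have hone : ∀ ψ : MulAut ↥(D.group F), Perm D F ψ 1 → ∃ (σ : F ≃+* F) (z : MulAut ↥(D.group F)), z ∈ NI D F ∧ ψ = z * fl D σ := by
    intro ψ hψ
    obtain ⟨χ, hχ, σ, rfl⟩ := mono_of_perm_one (hD := hD) hψ
    exact ⟨σ, _, diag_inner hN hχ, rfl⟩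
  have hrank : 0 < D.rank := (RootComb.good_of_mem hD).rank_pos
  have hx' : x ∈ NI D F := by
    obtain ⟨g, ψ, π, P, c, rfl, hP, hm, hπ⟩ := exists_of_mem_KX hx
    have h1 := hr π ⟨ψ, hπ⟩
    subst h1
    obtain ⟨χ, hχ, σ, e⟩ := mono_of_perm_one (hD := hD) hπ
    have hσ : σ = 1 := by
      apply RingEquiv.ext
      intro t
      have e1 : ∀ t : F, c (D.simple 0) * t = (χ (D.simple 0) : F) * σ t := by
        intro t
        have h2 := hm.eq (D.simple 0) (simple_lt hD hrank) t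
        rw [e, MulAut.mul_apply, fl_xe, diagAut_xe, show P (D.simple 0) = D.simple 0 from hP.1 ⟨0, hrank⟩] at h2
        exact (xe_inj hD (simple_lt hD hrank) h2).symm
      have e2 := e1 1
      rw [map_one, mul_one, mul_one] at e2
      have e3 := e1 t
      rw [e2] at e3
      exact (mul_left_cancel₀ (χ _).ne_zero e3).symm
    rw [hσ, show fl D (1 : F ≃+* F) = 1 from Cfsg.Agent.CpAut.RgdUntw.fld_one, mul_one] at e
    rw [e]
    exact (NI D F).mul_mem ⟨g, rfl⟩ (diag_inner hN hχ)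
  obtain ⟨g, ψ, π, rfl, hπ⟩ := exists_perm_form hD y
  have h1 := hr π ⟨ψ, hπ⟩
  subst h1
  obtain ⟨σ, z, ⟨z', rfl⟩, rfl⟩ := hone ψ hπ
  refine lift_congr (x' := x) (y' := fl D σ) (by rw [inv_mul_cancel]; exact one_mem _) ?_ (h x hx' σ)
  have e : (MulAut.conj g * (MulAut.conj z' * fl D σ))⁻¹ * fl D σ =
      (fl D σ)⁻¹ * MulAut.conj ((g * z')⁻¹) * ((fl D σ)⁻¹)⁻¹ := by
    rw [map_inv, map_mul]
    group
  rw [e]
  exact (instNormalNI D F).conj_mem _ ⟨_, rfl⟩ _

/-! ### `F₄` and `G₂` -/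

theorem frob_gen (p : ℕ) [hp : Fact p.Prime] [CharP F p] [Finite F] (σ : F ≃+* F) : σ ∈ Subgroup.zpowers (frobeniusEquiv F p) := by
  have := Fintype.ofFinite F
  obtain ⟨n, -, hn⟩ := FiniteField.card F p
  have h1 : Nat.card (F ≃+* F) = n := Cfsg.Agent.Lib.FieldAutCard.card_ringAut (f := (n : ℕ)) n.pos hn
  have hcyc : IsCyclic (F ≃+* F) := Cfsg.Agent.LieRecognition.FieldSemilinear.isCyclic_ringAut F
  have hfin : Finite (F ≃+* F) := Nat.finite_of_card_ne_zero (by rw [h1]; exact n.ne_zero)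
  have h2 : Nat.card (Subgroup.zpowers (frobeniusEquiv F p)) = n := by
    rw [Nat.card_zpowers]
    have hpow : ∀ (k : ℕ) (t : F), ((frobeniusEquiv F p) ^ k) t = t ^ p ^ k := by
      intro k
      induction k with
      | zero => intro t; simp
      | succ k ih =>
        intro t
        rw [pow_succ']
        change frobeniusEquiv F p (((frobeniusEquiv F p) ^ k) t) = _
        rw [ih, frobeniusEquiv_apply, frobenius_def, ← pow_mul, pow_succ]
    apply le_antisymm
    · apply Nat.le_of_dvd n.pos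
      apply orderOf_dvd_of_pow_eq_one
      apply RingEquiv.ext
      intro t
      rw [hpow, ← hn]
      exact FiniteField.pow_card t
    · by_contra hlt
      push Not at hlt
      set m := orderOf (frobeniusEquiv F p) with hm
      have hm0 : 0 < m := orderOf_pos _
      have h3 : ∀ t : F, t ^ p ^ m = t := by
        intro t
        rw [← hpow, hm, pow_orderOf_eq_one]
        rfl
      have h4 : (Polynomial.X ^ p ^ m - Polynomial.X : Polynomial F) ≠ 0 :=
        FiniteField.X_pow_card_pow_sub_X_ne_zero F hm0.ne' hp.out.one_lt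
      have h5 : Fintype.card F ≤ p ^ m := by
        classical
        have h6 : (Finset.univ : Finset F) ⊆ (Polynomial.X ^ p ^ m - Polynomial.X : Polynomial F).roots.toFinset := by
          intro t _
          rw [Multiset.mem_toFinset, Polynomial.mem_roots h4, Polynomial.IsRoot.def]
          simp [h3]
        have h7 := (Finset.card_le_card h6).trans (Multiset.toFinset_card_le _)
        have h8 := (Polynomial.X ^ p ^ m - Polynomial.X : Polynomial F).card_roots'
        rw [FiniteField.X_pow_card_pow_sub_X_natDegree_eq F hm0.ne' hp.out.one_lt] at h8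
        rw [Finset.card_univ] at h7
        omega
      rw [hn] at h5
      have := (Nat.pow_le_pow_iff_right hp.out.one_lt).1 h5
      omega
  have h3 : Subgroup.zpowers (frobeniusEquiv F p) = ⊤ := Subgroup.eq_top_of_card_eq _ (by rw [h2, h1])
  rw [h3]
  exact Subgroup.mem_top σ

/-- an automorphism with given exponents on the fundamental root elements -/
theorem mono_of_perm {ψ : MulAut ↥(D.group F)} {π : Equiv.Perm (Fin D.rank)} (h : Perm D F ψ π) {P : ℕ → ℕ}
    (hP : Ext D π P) : ∃ c σ, Mono hD ψ P c σ := by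
  obtain ⟨c, σ, hc, h1, h2, -⟩ := exists_field hD h
  obtain ⟨c', σ', hm, -⟩ := mono_of_simple (hD := hD) hc h1 h2 hP
  exact ⟨c', σ', hm⟩

/-- **`F₄(q)`** : it is enough to treat `x` inner, `y` monomial. -/
theorem lift_F4 [Finite F] (h : ∀ x ∈ NI chevF4 F, ∀ y P c σ, Mono hF4 y P c σ →
      (P = (fun s => s) ∨ (P = PF4 ∧ ∃ _ : CharP F 2, True)) → Lift (NI chevF4 F) x y)
    (x y : MulAut ↥(chevF4.group F)) : Lift (NI chevF4 F) x y := by
  by_cases h2 : (2 : F) = 0
  · have hF : Fact (Nat.Prime 2) := ⟨Nat.prime_two⟩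
    have hc : CharP F 2 := CharTwo.of_one_ne_zero_of_two_eq_zero one_ne_zero h2
    obtain ⟨α, hα⟩ := Cfsg.Agent.S1098.result (K := F) (hperf 2) (chevF4, [(3, 2), (2, 2), (1, 1), (0, 1)]) (by simp)
    have h1 : ∀ i : Fin 4, ∀ t : F, α (xe hF4 (chevF4.simple i) t) =
        xe hF4 (chevF4.simple ([(3, 2), (2, 2), (1, 1), (0, 1)].getD (i : ℕ) (0, 1)).1)
          (t ^ ([(3, 2), (2, 2), (1, 1), (0, 1)].getD (i : ℕ) (0, 1)).2) := fun i t =>
      eq_xe hF4 ((hα (xe hF4 (chevF4.simple i) t) i t i.2).1 (coe_coe_xe hF4 _ t))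
    have h1' : ∀ i : Fin 4, ∀ t : F, α (xe hF4 (chevF4.neg (chevF4.simple i)) t) =
        xe hF4 (chevF4.neg (chevF4.simple ([(3, 2), (2, 2), (1, 1), (0, 1)].getD (i : ℕ) (0, 1)).1))
          (t ^ ([(3, 2), (2, 2), (1, 1), (0, 1)].getD (i : ℕ) (0, 1)).2) := fun i t =>
      eq_xe hF4 ((hα (xe hF4 (chevF4.neg (chevF4.simple i)) t) i t i.2).2 (coe_coe_xe hF4 _ t))
    have hs : ∀ i : Fin 4, Function.Surjective
        (fun t : F => t ^ ([(3, 2), (2, 2), (1, 1), (0, 1)].getD (i : ℕ) (0, 1)).2) := by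
      intro i
      have h1 : ([(3, 2), (2, 2), (1, 1), (0, 1)].getD (i : ℕ) (0, 1)).2 = 1 ∨
          ([(3, 2), (2, 2), (1, 1), (0, 1)].getD (i : ℕ) (0, 1)).2 = 2 := by
        revert i; decide
      rcases h1 with h1 | h1
      · rw [h1]
        intro x
        exact ⟨x, pow_one x⟩
      · rw [h1]
        exact hperf 2
    have hαP : Perm chevF4 F α flip4 := by
      refine ⟨fun i => ?_, fun i => ?_⟩
      · have e : ((flip4 i : Fin chevF4.rank) : ℕ) = ([(3, 2), (2, 2), (1, 1), (0, 1)].getD (i : ℕ) (0, 1)).1 := flip_vals i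
        rw [e]
        exact smul_XX hF4 (φ := α) (hs i) (h1 i)
      · have e : ((flip4 i : Fin chevF4.rank) : ℕ) = ([(3, 2), (2, 2), (1, 1), (0, 1)].getD (i : ℕ) (0, 1)).1 := flip_vals i
        rw [e]
        exact smul_XX hF4 (φ := α) (hs i) (h1' i)
    have hsq : α * α = fl chevF4 (frobeniusEquiv F 2) := by
      have key : ∀ i : Fin 4, ([(3, 2), (2, 2), (1, 1), (0, 1)].getD ([(3, 2), (2, 2), (1, 1), (0, 1)].getD (i : ℕ) (0, 1)).1 (0, 1)).1 = (i : ℕ) ∧
          ([(3, 2), (2, 2), (1, 1), (0, 1)].getD (i : ℕ) (0, 1)).2 *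
          ([(3, 2), (2, 2), (1, 1), (0, 1)].getD ([(3, 2), (2, 2), (1, 1), (0, 1)].getD (i : ℕ) (0, 1)).1 (0, 1)).2 = 2 := by
        decide
      have hlt : ∀ i : Fin 4, ([(3, 2), (2, 2), (1, 1), (0, 1)].getD (i : ℕ) (0, 1)).1 < 4 := by decide
      refine ext_values hF4 (fun i t => ?_) fun i t => ?_
      · rw [MulAut.mul_apply]
        refine (congrArg α (h1 i t)).trans ((h1 ⟨_, hlt i⟩ _).trans ?_)
        rw [fl_xe]
        change xe hF4 (chevF4.simple ([(3, 2), (2, 2), (1, 1), (0, 1)].getD ([(3, 2), (2, 2), (1, 1), (0, 1)].getD (i : ℕ) (0, 1)).1 (0, 1)).1)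
          ((t ^ _) ^ ([(3, 2), (2, 2), (1, 1), (0, 1)].getD ([(3, 2), (2, 2), (1, 1), (0, 1)].getD (i : ℕ) (0, 1)).1 (0, 1)).2) = _
        rw [(key i).1, ← pow_mul, (key i).2]
        rfl
      · rw [MulAut.mul_apply]
        refine (congrArg α (h1' i t)).trans ((h1' ⟨_, hlt i⟩ _).trans ?_)
        rw [fl_xe]
        change xe hF4 (chevF4.neg (chevF4.simple ([(3, 2), (2, 2), (1, 1), (0, 1)].getD ([(3, 2), (2, 2), (1, 1), (0, 1)].getD (i : ℕ) (0, 1)).1 (0, 1)).1))
          ((t ^ _) ^ ([(3, 2), (2, 2), (1, 1), (0, 1)].getD ([(3, 2), (2, 2), (1, 1), (0, 1)].getD (i : ℕ) (0, 1)).1 (0, 1)).2) = _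
        rw [(key i).1, ← pow_mul, (key i).2]
        rfl
    refine lift_exc (hD := hF4) uni_F4 hαP (frob_gen 2) hsq (fun π hπ => realised_F4 hπ) ?_ x y
    rintro x hx _ (⟨σ, rfl⟩ | ⟨σ, rfl⟩)
    · exact h x hx _ _ _ _ (mono_fl σ) (Or.inl rfl)
    · obtain ⟨c, σ', hm⟩ := mono_of_perm (hD := hF4) hαP ext_F4
      exact h x hx _ _ _ _ (hm.mul (mono_fl σ)) (Or.inr ⟨rfl, hc, trivial⟩)
  · refine lift_plain (hD := hF4) uni_F4 (fun π hπ => ?_) (fun x hx σ => h x hx _ _ _ _ (mono_fl σ) (Or.inl rfl)) x y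
    rcases realised_F4 hπ with h3 | h3
    · exact h3
    · rw [h3] at hπ
      exact absurd hπ (flip4_not_mem h2)

/-- **`G₂(q)`** : it is enough to treat `x` inner, `y` monomial. -/
theorem lift_G2 [Finite F] (hq : 3 ≤ Nat.card F) (h : ∀ x ∈ NI chevG2 F, ∀ y P c σ, Mono hG2 y P c σ →
      (P = (fun s => s) ∨ (P = PG2 ∧ ∃ _ : CharP F 3, True)) → Lift (NI chevG2 F) x y)
    (x y : MulAut ↥(chevG2.group F)) : Lift (NI chevG2 F) x y := by
  by_cases h3 : (3 : F) = 0
  · have hF : Fact (Nat.Prime 3) := ⟨Nat.prime_three⟩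
    have hc : CharP F 3 := by
      obtain ⟨r, hr⟩ := CharP.exists F
      have h4 : r ∣ 3 := (CharP.cast_eq_zero_iff F r 3).1 (by exact_mod_cast h3)
      have h5 : r.Prime := (CharP.char_is_prime_or_zero F r).resolve_right (CharP.char_ne_zero_of_finite F r)
      have h6 := (Nat.prime_dvd_prime_iff_eq h5 Nat.prime_three).1 h4
      rwa [h6] at hr
    obtain ⟨α, hα⟩ := Cfsg.Agent.S1099.result (K := F) (hperf 3)
    obtain ⟨t0, t1, t2, t3⟩ := tab_G2
    have ha : ∀ t, α (xe hG2 7 t) = xe hG2 6 (t ^ 3) := fun t =>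
      eq_xe hG2 ((hα (xe hG2 7 t) t).1 (coe_coe_xe hG2 7 t))
    have hb : ∀ t, α (xe hG2 6 t) = xe hG2 7 t := fun t =>
      eq_xe hG2 ((hα (xe hG2 6 t) t).2.1 (coe_coe_xe hG2 6 t))
    have hma : ∀ t, α (xe hG2 4 t) = xe hG2 5 (t ^ 3) := fun t =>
      eq_xe hG2 ((hα (xe hG2 4 t) t).2.2.1 (coe_coe_xe hG2 4 t))
    have hmb : ∀ t, α (xe hG2 5 t) = xe hG2 4 t := fun t =>
      eq_xe hG2 ((hα (xe hG2 5 t) t).2.2.2 (coe_coe_xe hG2 5 t))
    have hcube : Function.Surjective (fun t : F => t ^ 3) := hperf 3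
    have h0 : (flip2 (0 : Fin 2) : ℕ) = 1 := rfl
    have h1 : (flip2 (1 : Fin 2) : ℕ) = 0 := rfl
    have hi2 : ∀ i : Fin chevG2.rank, i = (0 : Fin 2) ∨ i = (1 : Fin 2) := by
      intro i
      have : ∀ j : Fin 2, j = 0 ∨ j = 1 := by decide
      exact this i
    have hαP : Perm chevG2 F α flip2 := by
      refine ⟨fun i => ?_, fun i => ?_⟩
      · rcases hi2 i with rfl | rfl
        · rw [h0]
          show α • XX chevG2 F (chevG2.simple 0) = _
          rw [t0, t1]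
          exact smul_XX hG2 (φ := α) hcube ha
        · rw [h1]
          show α • XX chevG2 F (chevG2.simple 1) = _
          rw [t0, t1]
          exact smul_XX hG2 (φ := α) (f := id) Function.surjective_id hb
      · rcases hi2 i with rfl | rfl
        · rw [h0]
          show α • XX chevG2 F (chevG2.neg (chevG2.simple 0)) = _
          rw [t0, t1, t2, t3]
          exact smul_XX hG2 (φ := α) hcube hma
        · rw [h1]
          show α • XX chevG2 F (chevG2.neg (chevG2.simple 1)) = _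
          rw [t0, t1, t2, t3]
          exact smul_XX hG2 (φ := α) (f := id) Function.surjective_id hmb
    have hsq : α * α = fl chevG2 (frobeniusEquiv F 3) := by
      refine ext_values hG2 (fun i t => ?_) fun i t => ?_
      · rcases hi2 i with rfl | rfl
        · change (α * α) (xe hG2 (chevG2.simple 0) t) = fl chevG2 _ (xe hG2 (chevG2.simple 0) t)
          rw [t0, MulAut.mul_apply, ha, hb, fl_xe]
          rfl
        · change (α * α) (xe hG2 (chevG2.simple 1) t) = fl chevG2 _ (xe hG2 (chevG2.simple 1) t)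
          rw [t1, MulAut.mul_apply, hb, ha, fl_xe]
          rfl
      · rcases hi2 i with rfl | rfl
        · change (α * α) (xe hG2 (chevG2.neg (chevG2.simple 0)) t) = fl chevG2 _ (xe hG2 (chevG2.neg (chevG2.simple 0)) t)
          rw [t0, t2, MulAut.mul_apply, hma, hmb, fl_xe]
          rfl
        · change (α * α) (xe hG2 (chevG2.neg (chevG2.simple 1)) t) = fl chevG2 _ (xe hG2 (chevG2.neg (chevG2.simple 1)) t)
          rw [t1, t3, MulAut.mul_apply, hmb, hma, fl_xe]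
          rfl
    refine lift_exc (hD := hG2) uni_G2 hαP (frob_gen 3) hsq (fun π _ => perm2 π) ?_ x y
    rintro x hx _ (⟨σ, rfl⟩ | ⟨σ, rfl⟩)
    · exact h x hx _ _ _ _ (mono_fl σ) (Or.inl rfl)
    · obtain ⟨c, σ', hm⟩ := mono_of_perm (hD := hG2) hαP ext_G2
      exact h x hx _ _ _ _ (hm.mul (mono_fl σ)) (Or.inr ⟨rfl, hc, trivial⟩)
  · refine lift_plain (hD := hG2) uni_G2 (fun π hπ => ?_) (fun x hx σ => h x hx _ _ _ _ (mono_fl σ) (Or.inl rfl)) x y
    rcases perm2 π with h4 | h4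
    · exact h4
    · exfalso
      rw [show π = flip2 from h4] at hπ
      exact flip2_not_mem h3 hq hπ

end Cfsg.Agent.H134.Cos
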